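import Cfsg.Agent.LThreeFi23.Base

/-!
# `Fi23`: transitivity on the ordered pairs of distinct commuting transpositions (helper922)
-/

set_option autoImplicit false
set_option maxRecDepth 100000
set_option linter.constructorNameAsVariable false
set_option linter.unusedSectionVars false

namespace Cfsg.Agent.H922.S8

open Subgroup Cfsg Cfsg.Agent.Lib.PermNet Cfsg.Agent.Fischer.Fi23Hom Cfsg.Agent.LThreeFi23
open Cfsg.Spor (Fi23)

/-- `G` is transitive on the ordered pairs of distinct commuting points -/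
theorem pair_trans_com {p q p' q' : ℕ} (hp : p < 31671) (hq : q < 31671) (hp' : p' < 31671) (hq' : q' < 31671)
    (h : Com p q) (hn : p ≠ q) (h' : Com p' q') (hn' : p' ≠ q') : ∃ g : Fi23, rho g p = p' ∧ rho g q = q' := by
  obtain ⟨R, hR, hR0⟩ := exists_R
  have h1 : ∀ x : Fi23, R.t (x • R.x0) = T (rho x 0) := by
    intro x
    rw [R.map_smul, hR, T_eq (g := x) rfl]
  obtain ⟨u, hu⟩ := R.trans R.c
  have key : ∀ p q : ℕ, p < 31671 → q < 31671 → Com p q → p ≠ q → ∃ g : Fi23, rho g 0 = p ∧ rho g (rho u 0) = q := by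
    intro p q hp hq h hn
    obtain ⟨g, rfl⟩ := exists_rep hp
    obtain ⟨k, rfl⟩ := exists_rep hq
    have h2 : R.Com R.x0 ((g⁻¹ * k) • R.x0) := by
      rw [com_iff hq, ← h1, ← h1] at h
      apply (R.com_smul g R.x0 ((g⁻¹ * k) • R.x0)).1
      rw [smul_smul, mul_inv_cancel_left]
      exact h
    rcases R.com_x0_iff.1 h2 with h3 | ⟨m, hm, hm'⟩
    · exfalso
      apply hn
      apply (smul_x0_iff hR0 _ _).1
      rw [mul_smul, inv_smul_eq_iff] at h3
      exact h3.symm
    · refine ⟨g * m, ?_, ?_⟩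
      · apply (smul_x0_iff hR0 _ _).1
        rw [mul_smul, hm]
      · rw [← Equiv.Perm.mul_apply, ← map_mul]
        apply (smul_x0_iff hR0 _ _).1
        rw [mul_smul, hu, mul_smul, hm', smul_smul, mul_inv_cancel_left]
  obtain ⟨g, hg, hg'⟩ := key p q hp hq h hn
  obtain ⟨k, hk, hk'⟩ := key p' q' hp' hq' h' hn'
  refine ⟨k * g⁻¹, ?_, ?_⟩
  · rw [map_mul, Equiv.Perm.mul_apply, map_inv, (Equiv.Perm.inv_eq_iff_eq).2 hg.symm, hk]
  · rw [map_mul, Equiv.Perm.mul_apply, map_inv, (Equiv.Perm.inv_eq_iff_eq).2 hg'.symm, hk']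

end Cfsg.Agent.H922.S8
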